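import Cfsg.Agent.H530.LB.Three
import Cfsg.Agent.H448.Lb.NoSix

/-!
# S4879, row `F₄(q)`, `p = 7`: piece F3 (helper658)

`f3` : the exact statement `H23.LB.F3` (unfolded), from helper530's `relIndex_three` and helper448's `no_six`.
-/

set_option autoImplicit false

namespace Cfsg.Agent.H658.LB

open Cfsg Subgroup

universe u

theorem noSix : H530.LB.NoSix.{u} := fun _ _ _ hc h7 E hE h => H448.Lb.no_six hc h7 E hE h

/-- **Piece F3**: one class and `Loc 7 3`: the stabilizer in `N(P)/C(P)` has order 3. -/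
theorem f3 : ∀ (G : Type u) [Group G] [Finite G], H741.Lb.OneC 7 G → ∀ P : Sylow 7 G, Nat.card P = 7 ^ 2 →
    (∀ x ∈ (P : Subgroup G), x ^ 7 = 1) → H319.One.Loc 7 3 G → ∀ x ∈ (P : Subgroup G), x ≠ 1 →
    (centralizer ((P : Subgroup G) : Set G)).relIndex
      (normalizer ((P : Subgroup G) : Set G) ⊓ centralizer ({x} : Set G)) = 3 :=
  fun _ _ _ hO P hP hexp hL _ hx hx1 => H530.LB.relIndex_three noSix hO P hP hexp hL hx hx1

end Cfsg.Agent.H658.LB
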